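import Mathlib.RingTheory.Derivation.Basic
import Mathlib.RingTheory.PowerSeries.Derivative
import Mathlib.RingTheory.PowerSeries.Inverse
import Mathlib.RingTheory.IntegralClosure.IsIntegral.Basic
import Mathlib.RingTheory.IntegralClosure.Algebra.Basic
import Mathlib.RingTheory.IntegralClosure.IsIntegralClosure.Basic
import Mathlib.RingTheory.Localization.FractionRing
import Mathlib.RingTheory.Localization.Integer
import Mathlib.RingTheory.Noetherian.Basic

/-!
# Derivations extend to the normalization in characteristic zero
-/

set_option autoImplicit false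
set_option linter.style.haveILetI false

universe u

open PowerSeries

namespace Groth.Agent.DerNorm5

variable {k A : Type u} [Field k] [CharZero k] [CommRing A] [Algebra k A] (D : Derivation k A A)

/-- the exponential series of a derivation -/
noncomputable def expSer (a : A) : A⟦X⟧ := PowerSeries.mk fun n => (n.factorial : k)⁻¹ • (⇑D)^[n] a

theorem coeff_expSer (a : A) (n : ℕ) : coeff n (expSer D a) = (n.factorial : k)⁻¹ • (⇑D)^[n] a := coeff_mk _ _

theorem constantCoeff_expSer (a : A) : constantCoeff (expSer D a) = a := by
  rw [← coeff_zero_eq_constantCoeff_apply, coeff_expSer]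
  simp

theorem iterate_add (n : ℕ) (a b : A) : (⇑D)^[n] (a + b) = (⇑D)^[n] a + (⇑D)^[n] b := by
  induction n generalizing a b with
  | zero => rfl
  | succ n ih => rw [Function.iterate_succ_apply, map_add, ih, ← Function.iterate_succ_apply,
      ← Function.iterate_succ_apply]

theorem expSer_add (a b : A) : expSer D (a + b) = expSer D a + expSer D b := by
  ext n
  rw [map_add, coeff_expSer, coeff_expSer, coeff_expSer, iterate_add, smul_add]

theorem coeff_succ_expSer (a : A) (n : ℕ) :
    ((n : A) + 1) * coeff (n + 1) (expSer D a) = coeff n (expSer D (D a)) := by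
  rw [coeff_expSer, coeff_expSer, ← Nat.cast_succ, ← nsmul_eq_mul, Function.iterate_succ_apply,
    ← Nat.cast_smul_eq_nsmul k (n + 1), smul_smul, Nat.factorial_succ, Nat.cast_mul, mul_inv,
    ← mul_assoc, mul_inv_cancel₀ (Nat.cast_ne_zero.2 (Nat.succ_ne_zero n)), one_mul]

include D in
theorem isUnit_natCast_succ (n : ℕ) : IsUnit ((n : A) + 1) := by
  have h : IsUnit ((n : k) + 1) := isUnit_iff_ne_zero.2 (by exact_mod_cast Nat.succ_ne_zero n)
  simpa using h.map (algebraMap k A)

theorem expSer_mul (a b : A) : expSer D (a * b) = expSer D a * expSer D b := by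
  refine PowerSeries.ext fun n => ?_
  induction n generalizing a b with
  | zero =>
    rw [coeff_zero_eq_constantCoeff_apply, coeff_zero_eq_constantCoeff_apply, map_mul, constantCoeff_expSer,
      constantCoeff_expSer, constantCoeff_expSer]
  | succ n ih =>
    refine (isUnit_natCast_succ D n).mul_left_cancel ?_
    rw [coeff_succ_expSer, Derivation.leibniz, smul_eq_mul, smul_eq_mul, expSer_add, map_add,
      mul_comm b (D a), ih, ih]
    have hd : ∀ c : A, d⁄dX A (expSer D c) = expSer D (D c) := fun c => by
      refine PowerSeries.ext fun m => ?_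
      rw [coeff_derivative, mul_comm, coeff_succ_expSer]
    have h := congrArg (coeff n) (Derivation.leibniz (d⁄dX A) (expSer D a) (expSer D b))
    rw [coeff_derivative, mul_comm (coeff (n + 1) _), hd, hd, smul_eq_mul, smul_eq_mul, map_add,
      mul_comm (expSer D b)] at h
    rw [h]

theorem expSer_algebraMap (r : k) : expSer D (algebraMap k A r) = PowerSeries.C (algebraMap k A r) := by
  ext n
  rw [coeff_expSer, PowerSeries.coeff_C]
  rcases n with _ | n
  · simp
  · have h0 : ∀ m, (⇑D)^[m] (0 : A) = 0 := fun m => by
      induction m with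
      | zero => rfl
      | succ m ih => rw [Function.iterate_succ_apply, map_zero, ih]
    simp [Function.iterate_succ_apply, Derivation.map_algebraMap, h0]

/-- the exponential of a derivation, a ring homomorphism -/
noncomputable def expHom : A →+* A⟦X⟧ where
  toFun := expSer D
  map_one' := by simpa using expSer_algebraMap D 1
  map_mul' := expSer_mul D
  map_zero' := by simpa using expSer_algebraMap D 0
  map_add' := expSer_add D

variable (S : Type u) [CommRing S] [Algebra A S] [IsFractionRing A S]

theorem isUnit_expHom_map (s : nonZeroDivisors A) :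
    IsUnit (PowerSeries.map (algebraMap A S) (expHom D s)) := by
  rw [PowerSeries.isUnit_iff_constantCoeff, ← coeff_zero_eq_constantCoeff_apply, PowerSeries.coeff_map, coeff_zero_eq_constantCoeff_apply]
  exact (congrArg (algebraMap A S) (constantCoeff_expSer D s)).symm ▸ IsLocalization.map_units S s

/-- the exponential on the total ring of fractions -/
noncomputable def expFrac : S →+* S⟦X⟧ :=
  IsLocalization.lift (M := nonZeroDivisors A) (g := (PowerSeries.map (algebraMap A S)).comp (expHom D))
    (isUnit_expHom_map D S)

theorem expFrac_algebraMap (a : A) :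
    expFrac D S (algebraMap A S a) = PowerSeries.map (algebraMap A S) (expHom D a) :=
  IsLocalization.lift_eq _ a

theorem constantCoeff_expFrac (x : S) : constantCoeff (expFrac D S x) = x := by
  have : (constantCoeff).comp (expFrac D S) = RingHom.id S :=
    IsLocalization.ringHom_ext (nonZeroDivisors A) (RingHom.ext fun a => by
      rw [RingHom.comp_apply, RingHom.comp_apply, expFrac_algebraMap, ← coeff_zero_eq_constantCoeff_apply, PowerSeries.coeff_map, coeff_zero_eq_constantCoeff_apply]
      exact congrArg (algebraMap A S) (constantCoeff_expSer D a))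
  exact congr($this x)

theorem isIntegral_of_bounded [IsNoetherianRing A] (c : nonZeroDivisors A) (w : S)
    (hw : ∀ n : ℕ, ∃ a : A, algebraMap A S a = algebraMap A S c * w ^ n) : IsIntegral A w := by
  let e : S := ↑(IsLocalization.map_units S c).unit⁻¹
  have he : e * algebraMap A S c = 1 := (IsLocalization.map_units S c).val_inv_mul
  refine IsIntegral.of_mem_of_fg (Algebra.adjoin A {w}) ?_ _ (Algebra.self_mem_adjoin_singleton A w)
  refine Submodule.FG.of_le (Submodule.fg_span_singleton e) ?_
  rw [Algebra.adjoin_eq_span, Submodule.span_le]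
  intro y hy
  obtain ⟨n, rfl⟩ := Submonoid.mem_closure_singleton.1 hy
  obtain ⟨a, ha⟩ := hw n
  refine Submodule.mem_span_singleton.2 ⟨a, ?_⟩
  rw [Algebra.smul_def, ha, mul_comm _ (w ^ n), mul_assoc, mul_comm (algebraMap A S c), he, mul_one]

theorem exists_denominator {x : S} (hx : IsIntegral A x) :
    ∃ c : nonZeroDivisors A, ∀ n : ℕ, ∃ a : A, algebraMap A S a = algebraMap A S c * x ^ n := by
  classical
  obtain ⟨F, hF⟩ := hx.fg_adjoin_singleton
  obtain ⟨c, hc⟩ := IsLocalization.exist_integer_multiples_of_finset (nonZeroDivisors A) F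
  refine ⟨c, fun n => ?_⟩
  have hmem : x ^ n ∈ Submodule.span A (F : Set S) := by
    rw [hF]
    exact pow_mem (Algebra.self_mem_adjoin_singleton A x) n
  generalize x ^ n = t at hmem ⊢
  induction hmem using Submodule.span_induction with
  | mem y hy =>
    obtain ⟨a, ha⟩ := hc y hy
    exact ⟨a, ha.trans (Algebra.smul_def _ _)⟩
  | zero => exact ⟨0, by simp⟩
  | add y z _ _ hy hz =>
    obtain ⟨a, ha⟩ := hy
    obtain ⟨b, hb⟩ := hz
    exact ⟨a + b, by rw [map_add, ha, hb, mul_add]⟩
  | smul r y _ hy =>
    obtain ⟨a, ha⟩ := hy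
    exact ⟨r * a, by rw [map_mul, ha, Algebra.smul_def]; ring⟩

theorem isIntegral_coeff_one [IsNoetherianRing A] {x : S} (hx : IsIntegral A x) :
    IsIntegral A (coeff 1 (expFrac D S x)) := by
  obtain ⟨c, hc⟩ := exists_denominator S hx
  choose a ha using hc
  let R : Subring S⟦X⟧ := (PowerSeries.map (algebraMap A S)).range
  let z := expFrac D S x
  let w : S⟦X⟧ := PowerSeries.mk fun n => coeff (n + 1) z
  have hzw : z - PowerSeries.C x = PowerSeries.X * w := by
    refine PowerSeries.ext fun n => ?_
    rcases n with _ | n
    · simp [z, constantCoeff_expFrac]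
    · simp [w, PowerSeries.coeff_C]
  let u : S⟦X⟧ := expFrac D S (algebraMap A S c)
  refine isIntegral_of_bounded S (c * c) _ fun n => ?_
  have hmem : u * PowerSeries.C (algebraMap A S c) * (z - PowerSeries.C x) ^ n ∈ R := by
    rw [sub_eq_add_neg, add_pow, Finset.mul_sum]
    refine R.sum_mem fun i _ => ?_
    have h1 : u * z ^ i ∈ R := ⟨expHom D (a i), by
      rw [← expFrac_algebraMap, ha, map_mul, map_pow]⟩
    have h2 : PowerSeries.C (algebraMap A S c) * (-PowerSeries.C x) ^ (n - i) ∈ R := by
      rw [neg_pow, mul_left_comm]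
      refine R.mul_mem (R.pow_mem (R.neg_mem R.one_mem) _) ⟨PowerSeries.C (a (n - i)), ?_⟩
      rw [PowerSeries.map_C, ha, map_mul, map_pow]
    have h3 : ((n.choose i : S⟦X⟧)) ∈ R := natCast_mem R _
    have e : u * PowerSeries.C (algebraMap A S c) * (z ^ i * (-PowerSeries.C x) ^ (n - i) * (n.choose i : S⟦X⟧)) =
        (u * z ^ i) * (PowerSeries.C (algebraMap A S c) * (-PowerSeries.C x) ^ (n - i)) * (n.choose i : S⟦X⟧) := by
      ring
    rw [e]
    exact R.mul_mem (R.mul_mem h1 h2) h3
  obtain ⟨f, hf⟩ := hmem
  refine ⟨coeff n f, ?_⟩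
  have h4 := congrArg (coeff n) hf
  rw [PowerSeries.coeff_map] at h4
  rw [h4, hzw, mul_pow, mul_left_comm]
  conv_lhs => rw [show coeff n = coeff (0 + n) by rw [zero_add], PowerSeries.coeff_X_pow_mul,
    coeff_zero_eq_constantCoeff_apply]
  rw [map_mul, map_mul, map_pow, constantCoeff_expFrac, PowerSeries.constantCoeff_C, Submonoid.coe_mul, map_mul,
    show constantCoeff w = coeff 1 (expFrac D S x) by rw [← coeff_zero_eq_constantCoeff_apply, coeff_mk]]

/-- the extended derivation on the integral closure -/
theorem exists_derivation [IsNoetherianRing A] :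
    ∃ D' : Derivation k ↥(integralClosure A (FractionRing A)) ↥(integralClosure A (FractionRing A)),
      ∀ a : A, (D' (algebraMap A ↥(integralClosure A (FractionRing A)) a) : FractionRing A) =
        algebraMap A (FractionRing A) (D a) := by
  let B := integralClosure A (FractionRing A)
  have hcomap : ∀ a : A, coeff 1 (expFrac D (FractionRing A) (algebraMap A _ a)) = algebraMap A _ (D a) :=
    fun a => by
      rw [expFrac_algebraMap, PowerSeries.coeff_map]
      exact congrArg _ ((coeff_expSer D a 1).trans (by simp))
  have hmul : ∀ y z : FractionRing A, coeff 1 (expFrac D (FractionRing A) (y * z)) =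
      y * coeff 1 (expFrac D (FractionRing A) z) + z * coeff 1 (expFrac D (FractionRing A) y) := fun y z => by
    rw [map_mul, coeff_one_mul, constantCoeff_expFrac, constantCoeff_expFrac]
    ring
  let L : ↥B →ₗ[k] ↥B :=
    { toFun := fun x => ⟨coeff 1 (expFrac D (FractionRing A) x.1), isIntegral_coeff_one D _ x.2⟩
      map_add' := fun x y => Subtype.ext (by simp)
      map_smul' := fun r x => Subtype.ext (by
        show coeff 1 (expFrac D (FractionRing A) (r • x.1)) = r • coeff 1 (expFrac D (FractionRing A) x.1)
        rw [Algebra.smul_def, Algebra.smul_def, hmul, IsScalarTower.algebraMap_apply k A (FractionRing A), hcomap,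
          Derivation.map_algebraMap, map_zero, mul_zero, add_zero]) }
  refine ⟨Derivation.mk' L fun x y => Subtype.ext ?_, hcomap⟩
  exact hmul x.1 y.1

end Groth.Agent.DerNorm5
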